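import Groth.Agent.Pi1PBC.Basic
import Groth.Agent.Pi1FEt.Points
import Groth.Agent.Pi1Etale.EqLocus
import Groth.Prelude.Def_Pi1
import Mathlib.AlgebraicGeometry.Limits

/-!
# Index functions splitting a finite etale morphism
-/

universe u

set_option autoImplicit false
set_option backward.isDefEq.respectTransparency false
set_option backward.defeqAttrib.useBackward true
set_option linter.style.haveILetI false

open CategoryTheory Limits AlgebraicGeometry

namespace Groth.Pi1Split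

/-- Over the geometric point `ξ` every index has exactly one point. -/
def OneOverEach {Q P : Scheme.{u}} (p : Q ⟶ P) {ι : Type u} (idx : ↥Q → ι) {Ω : Type u} [Field Ω]
    (ξ : Spec (CommRingCat.of Ω) ⟶ P) : Prop :=
  ∀ i : ι, ∃! y : Spec (CommRingCat.of Ω) ⟶ Q, y ≫ p = ξ ∧ idx (y default) = i

/-- An index function splitting `p`: locally constant, one point of each index over each geometric point. -/
structure IsSplitting {Q P : Scheme.{u}} (p : Q ⟶ P) {ι : Type u} (idx : ↥Q → ι) : Prop where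
  isLocallyConstant : IsLocallyConstant idx
  one : ∀ (Ω : Type u) [Field Ω] [IsAlgClosed Ω] (ξ : Spec (CommRingCat.of Ω) ⟶ P), OneOverEach p idx ξ

theorem isClopen_idx {Q : Scheme.{u}} {ι : Type u} {idx : ↥Q → ι} (h : IsLocallyConstant idx) (i : ι) :
    IsClopen {q | idx q = i} := h.isClopen_fiber i

/-- The part of index `i` as an open. -/
def piece {Q : Scheme.{u}} {ι : Type u} {idx : ↥Q → ι} (h : IsLocallyConstant idx) (i : ι) : Q.Opens :=
  ⟨{q | idx q = i}, (isClopen_idx h i).2⟩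

theorem isClosedImmersion_piece_ι {Q : Scheme.{u}} {ι : Type u} {idx : ↥Q → ι} (h : IsLocallyConstant idx)
    (i : ι) : IsClosedImmersion (piece h i).ι :=
  IsClosedImmersion.of_isPreimmersion _ (by
    rw [Scheme.Opens.range_ι]; exact (isClopen_idx h i).1)

theorem existsUnique_iff_card {Q P : Scheme.{u}} (p : Q ⟶ P) {ι : Type u} {idx : ↥Q → ι}
    (h : IsLocallyConstant idx) (i : ι) [IsFinite p] [Etale p] {Ω : Type u} [Field Ω] [IsAlgClosed Ω]
    (ξ : Spec (CommRingCat.of Ω) ⟶ P) :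
    (∃! y : Spec (CommRingCat.of Ω) ⟶ Q, y ≫ p = ξ ∧ idx (y default) = i) ↔
      ((piece h i).ι ≫ p).finrank (ξ default) = 1 := by
  haveI := isClosedImmersion_piece_ι h i
  let A : FEt.Cat P := MorphismProperty.Over.mk ⊤ ((piece h i).ι ≫ p) ⟨inferInstance, inferInstance⟩
  haveI : IsFinite A.hom := A.prop.1
  haveI : Etale A.hom := A.prop.2
  rw [show ((piece h i).ι ≫ p).finrank (ξ default) = Nat.card (FEt.fiberObj ξ A) from
    (Pi1FEt.natCard_fiberObj ξ A).symm, Nat.card_eq_one_iff_exists]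
  have hlift : ∀ y : Spec (CommRingCat.of Ω) ⟶ Q, idx (y default) = i →
      ∃ z, z ≫ (piece h i).ι = y := fun y hy => by
    refine ⟨IsOpenImmersion.lift (piece h i).ι y ?_, IsOpenImmersion.lift_fac _ _ _⟩
    rintro _ ⟨x, rfl⟩
    rw [Scheme.Opens.range_ι, Subsingleton.elim x default]
    exact hy
  constructor
  · rintro ⟨y, ⟨hy₁, hy₂⟩, hu⟩
    obtain ⟨z, rfl⟩ := hlift y hy₂
    refine ⟨⟨z, by change z ≫ _ ≫ p = ξ; rwa [← Category.assoc]⟩, fun z' => Subtype.ext ?_⟩
    have h1 : z'.1 ≫ (piece h i).ι = z ≫ (piece h i).ι := hu _ ⟨by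
      have := z'.2
      change z'.1 ≫ _ ≫ p = ξ at this
      rwa [Category.assoc], by
      rw [Scheme.Hom.comp_apply]; exact (z'.1 default).2⟩
    exact (cancel_mono _).1 h1
  · rintro ⟨⟨z, hz⟩, hu⟩
    change z ≫ _ ≫ p = ξ at hz
    refine ⟨z ≫ (piece h i).ι, ⟨by rwa [Category.assoc], by
      rw [Scheme.Hom.comp_apply]; exact (z default).2⟩, fun y ⟨hy₁, hy₂⟩ => ?_⟩
    obtain ⟨z', rfl⟩ := hlift y hy₂
    rw [Category.assoc] at hy₁
    exact congrArg (· ≫ (piece h i).ι) (congrArg Subtype.val (hu ⟨z', hy₁⟩))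

/-- A split cover has a splitting index. -/
theorem exists_splitting_of_isSplit {P : Scheme.{u}} (Y : FEt.Cat P) (hY : Pi1.IsSplit Y) :
    ∃ (ι : Type u) (_ : Finite ι) (idx : ↥Y.left → ι), IsSplitting Y.hom idx := by
  obtain ⟨ι, hι, e, he⟩ := hY
  let j : ι → (P ⟶ Y.left) := fun i => Sigma.ι (fun _ : ι => P) i ≫ e.inv
  have hj : ∀ i, j i ≫ Y.hom = 𝟙 P := fun i => by
    simpa only [j, Category.assoc] using he i
  have hcov : ∀ q : ↥Y.left, ∃ i, q ∈ Set.range (j i).base := fun q => by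
    obtain ⟨i, x, hx⟩ := (sigmaOpenCover (fun _ : ι => P)).exists_eq (e.hom q)
    refine ⟨i, x, ?_⟩
    change (Sigma.ι (fun _ : ι => P) i ≫ e.inv) x = q
    rw [Scheme.Hom.comp_apply]
    change e.inv ((Sigma.ι (fun _ : ι => P) i) x) = q
    rw [show (Sigma.ι (fun _ : ι => P) i) x = e.hom q from hx, ← Scheme.Hom.comp_apply, e.hom_inv_id]
    rfl
  choose idx hidx using hcov
  have hdisj : ∀ i q, q ∈ Set.range (j i).base → idx q = i := fun i q ⟨x, hx⟩ => by
    by_contra hne
    obtain ⟨x', hx'⟩ := hidx q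
    have h2 : (Sigma.ι (fun _ : ι => P) (idx q)) x' = (Sigma.ι (fun _ : ι => P) i) x := by
      have h1 : ∀ i' x'', e.hom ((j i') x'') = (Sigma.ι (fun _ : ι => P) i') x'' := fun i' x'' => by
        rw [← Scheme.Hom.comp_apply, show j i' ≫ e.hom = Sigma.ι (fun _ : ι => P) i' from
          (Category.assoc _ _ _).trans (by rw [e.inv_hom_id, Category.comp_id])]
      rw [← h1, ← h1, hx'.trans hx.symm]
    exact (disjoint_opensRange_sigmaι (fun _ : ι => P) _ _ hne).le_bot ⟨⟨x', rfl⟩, ⟨x, h2.symm⟩⟩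
  have hfib : ∀ i, {q | idx q = i} = Set.range (j i).base := fun i =>
    Set.ext fun q => ⟨fun h => h ▸ hidx q, hdisj i q⟩
  refine ⟨ι, hι, idx, (IsLocallyConstant.iff_isOpen_fiber).2 fun i => ?_, fun Ω _ _ ξ i => ?_⟩
  · change IsOpen {q | idx q = i}
    rw [hfib]
    exact (j i).isOpenEmbedding.isOpen_range
  · refine ⟨ξ ≫ j i, ⟨(Category.assoc _ _ _).trans
      ((congrArg (ξ ≫ ·) (hj i)).trans (Category.comp_id _)),
      hdisj i _ ⟨ξ default, (Scheme.Hom.comp_apply _ _ _).symm⟩⟩, fun y ⟨hy₁, hy₂⟩ => ?_⟩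
    have hr : Set.range y.base ⊆ Set.range (j i).base := by
      rintro _ ⟨x, rfl⟩
      rw [Subsingleton.elim x default, ← hy₂]
      exact hidx _
    have h1 := IsOpenImmersion.lift_fac (j i) y hr
    have h2 : IsOpenImmersion.lift (j i) y hr = ξ := by
      have := congrArg (· ≫ Y.hom) h1
      exact (((Category.assoc _ _ _).trans
        ((congrArg (_ ≫ ·) (hj i)).trans (Category.comp_id _))).symm.trans this).trans hy₁
    rw [← h1, h2]

end Groth.Pi1Split
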