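import Groth.Agent.Pi1Split.Nbhd
import Groth.Agent.Pi1PBC.Rigid
import Groth.Agent.Pi1Eff.Proper

/-!
# Descent of fibrewise split covers along proper morphisms with connected geometric fibres
-/

universe u

set_option autoImplicit false
set_option backward.isDefEq.respectTransparency false
set_option backward.defeqAttrib.useBackward true
set_option linter.style.haveILetI false

open CategoryTheory Limits AlgebraicGeometry TopologicalSpace
open Groth.Pi1Desc Groth.Pi1EtDesc

namespace Groth.Pi1Split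

variable {X S : Scheme.{u}} (f : X ⟶ S) {W : Scheme.{u}} (h : W ⟶ X)

/-- Two geometric points of `W` lie in the same connected component of their common geometric fibre. -/
def SameComp {Ω : Type u} [Field Ω] (a b : Spec (CommRingCat.of Ω) ⟶ W) : Prop :=
  ∃ (ζ : Spec (CommRingCat.of Ω) ⟶ S) (ha : a ≫ h ≫ f = ζ) (hb : b ≫ h ≫ f = ζ),
    connectedComponent ((pullback.lift (f := h ≫ f) (g := ζ) a (𝟙 _) (by rw [Category.id_comp, ha])) default) =
      connectedComponent ((pullback.lift (f := h ≫ f) (g := ζ) b (𝟙 _) (by rw [Category.id_comp, hb])) default)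

variable {f h}

/-- Local data: an etale map to the base and a splitting index. -/
structure Chart (f : X ⟶ S) (h : W ⟶ X) where
  /-- the parameter scheme -/
  V : Scheme.{u}
  /-- the map -/
  v : V ⟶ S
  [etale : Etale v]
  /-- the index type -/
  ι : Type u
  /-- the index -/
  idx : ↥(pullback (h ≫ f) v) → ι
  splitting : IsSplitting (qMap f h v) idx

attribute [instance] Chart.etale

/-- The index of a geometric point at a lift to a chart. -/
noncomputable def Chart.at (D : Chart f h) {Ω : Type u} [Field Ω] (a : Spec (CommRingCat.of Ω) ⟶ W)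
    (w : Spec (CommRingCat.of Ω) ⟶ D.V) (e : a ≫ h ≫ f = w ≫ D.v) : D.ι :=
  D.idx ((pullback.lift (f := h ≫ f) (g := D.v) a w e) default)

theorem sameComp_iff [IsFinite h] [Etale h]
    (hconn : ∀ (K : Type u) [Field K] [IsAlgClosed K] (ξ : Spec (CommRingCat.of K) ⟶ S),
      ConnectedSpace ↑(pullback f ξ))
    (D : Chart f h) {Ω : Type u} [Field Ω] [IsAlgClosed Ω] (a b : Spec (CommRingCat.of Ω) ⟶ W)
    (w : Spec (CommRingCat.of Ω) ⟶ D.V) (ha : a ≫ h ≫ f = w ≫ D.v) (hb : b ≫ h ≫ f = w ≫ D.v) :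
    SameComp f h a b ↔ D.at a w ha = D.at b w hb := by
  let ζ := w ≫ D.v
  let m := pbBase (h ≫ f) w D.v ζ rfl
  let mX := pbBase f w D.v ζ rfl
  let φ : ↥(pullback (h ≫ f) ζ) → D.ι := fun z => D.idx (m z)
  have hφ : IsLocallyConstant φ := D.splitting.isLocallyConstant.comp_continuous m.continuous
  let P : ∀ (c : Spec (CommRingCat.of Ω) ⟶ W), c ≫ h ≫ f = ζ → (Spec (CommRingCat.of Ω) ⟶ pullback (h ≫ f) ζ) :=
    fun c hc => pullback.lift c (𝟙 _) (by rw [Category.id_comp, hc])
  have hP : ∀ c hc, φ ((P c hc) default) = D.at c w hc := fun c hc => by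
    simp only [φ, Chart.at]
    rw [← Scheme.Hom.comp_apply]
    exact congrArg (fun n => D.idx (n default)) (show P c hc ≫ m = pullback.lift c w hc by
      apply pullback.hom_ext <;> simp [P, m])
  constructor
  · rintro ⟨ζ', hζa, hζb, hc⟩
    obtain rfl : ζ' = ζ := hζa.symm.trans ha
    rw [← hP a ha, ← hP b hb]
    refine hφ.apply_eq_of_isPreconnected isPreconnected_connectedComponent mem_connectedComponent ?_
    change _ ∈ connectedComponent ((P a ha) default)
    rw [show connectedComponent ((P a ha) default) = connectedComponent ((P b hb) default) from hc]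
    exact mem_connectedComponent
  · intro hidx
    refine ⟨ζ, ha, hb, ?_⟩
    change connectedComponent ((P a ha) default) = connectedComponent ((P b hb) default)
    let i := D.at a w ha
    haveI := isClosedImmersion_piece_ι hφ i
    haveI : IsIso ((piece hφ i).ι ≫ qMap f h ζ) := by
      have key : ∀ (L : Type u) [Field L] [IsAlgClosed L] (ξ : Spec (CommRingCat.of L) ⟶ pullback f ζ),
          OneOverEach (qMap f h ζ) φ ξ := fun L _ _ ξ =>
        (oneOverEach_iff (isPullback_qMap_pbBase f h w D.v ζ rfl) D.idx ξ).2 (D.splitting.one L _)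
      refine Pi1PBC.isIso_of_geomPoints _ (fun L _ _ ξ₁ ξ₂ e => ?_) (fun L _ _ ξ => ?_)
      · obtain ⟨y, -, hu⟩ := key L (ξ₁ ≫ (piece hφ i).ι ≫ qMap f h ζ) i
        refine (cancel_mono (piece hφ i).ι).1 ((hu _ ⟨Category.assoc _ _ _, ?_⟩).trans
          (hu _ ⟨(Category.assoc _ _ _).trans e.symm, ?_⟩).symm)
        · rw [Scheme.Hom.comp_apply]; exact (ξ₁ default).2
        · rw [Scheme.Hom.comp_apply]; exact (ξ₂ default).2
      · obtain ⟨y, ⟨hy₁, hy₂⟩, -⟩ := key L ξ i
        have hr : Set.range y.base ⊆ Set.range (piece hφ i).ι.base := by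
          rintro _ ⟨x, rfl⟩
          rw [Scheme.Opens.range_ι, Subsingleton.elim x default]
          exact hy₂
        exact ⟨IsOpenImmersion.lift _ y hr, by
          rw [← Category.assoc, IsOpenImmersion.lift_fac, hy₁]⟩
    haveI := hconn Ω ζ
    haveI : ConnectedSpace ↥(piece hφ i).toScheme :=
      ((inv ((piece hφ i).ι ≫ qMap f h ζ)).surjective).connectedSpace (Scheme.Hom.continuous _)
    have hsub : _root_.IsPreconnected ((piece hφ i : Set ↥(pullback (h ≫ f) ζ))) := by
      rw [← Scheme.Opens.range_ι (piece hφ i)]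
      exact isPreconnected_range (piece hφ i).ι.continuous
    refine (connectedComponent_eq (hsub.subset_connectedComponent ?_ ?_)).symm
    · exact (hP b hb).trans hidx.symm
    · exact hP a ha

theorem comp_cond {A B C P : Scheme.{u}} (a : A ⟶ C) (b : B ⟶ C) (z : P ⟶ pullback a b) :
    (z ≫ pullback.fst a b) ≫ a = (z ≫ pullback.snd a b) ≫ b := by
  simp only [Category.assoc, pullback.condition]

theorem exists_lift_chart (D : Chart f h) {Ω : Type u} [Field Ω] [IsAlgClosed Ω]
    (ζ : Spec (CommRingCat.of Ω) ⟶ S) (hz : ζ default ∈ Set.range D.v.base) :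
    ∃ w : Spec (CommRingCat.of Ω) ⟶ D.V, w ≫ D.v = ζ := by
  obtain ⟨z, hz⟩ := hz
  obtain ⟨p, -, -⟩ := Scheme.Pullback.exists_preimage_pullback (f := D.v) (g := ζ) z default hz
  haveI : Etale (pullback.snd D.v ζ) := MorphismProperty.pullback_snd _ _ inferInstance
  haveI : LocallyOfFiniteType (pullback.snd D.v ζ) := inferInstance
  haveI : JacobsonSpace ↥(pullback D.v ζ) := LocallyOfFiniteType.jacobsonSpace (pullback.snd D.v ζ)
  obtain ⟨x, -, hx⟩ := nonempty_inter_closedPoints
    (Z := (Set.univ : Set ↥(pullback D.v ζ))) ⟨p, trivial⟩ isClosed_univ.isLocallyClosed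
  refine ⟨pointOfClosedPoint (pullback.snd D.v ζ) x hx ≫ pullback.fst D.v ζ, ?_⟩
  rw [Category.assoc, pullback.condition, ← Category.assoc, pointOfClosedPoint_comp, Category.id_comp]

/-- A finite etale cover split on the geometric fibres of a proper surjection with connected geometric
fibres comes from the base. -/
theorem exists_descent [IsProper f] [Surjective f] [LocallyOfFinitePresentation f] [IsFinite h] [Etale h]
    (hconn : ∀ (K : Type u) [Field K] [IsAlgClosed K] (ξ : Spec (CommRingCat.of K) ⟶ S),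
      ConnectedSpace ↑(pullback f ξ))
    (hsplit : ∀ (K : Type u) [Field K] [IsAlgClosed K] (σ : Spec (CommRingCat.of K) ⟶ S),
      ∃ (ι : Type u) (_ : Finite ι) (idx : ↥(pullback (h ≫ f) σ) → ι), IsSplitting (qMap f h σ) idx) :
    ∃ (U : Scheme.{u}) (π : U ⟶ S) (q : W ⟶ U), IsFinite π ∧ Etale π ∧ IsPullback q h π f := by
  have hchart : ∀ s : S, ∃ D : Chart f h, s ∈ Set.range D.v.base := fun s => by
    obtain ⟨V, v, _, hs, ι, _, idx, hidx⟩ := exists_splitting_nhd f h hsplit s
    exact ⟨⟨V, v, ι, idx, hidx⟩, hs⟩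
  let E := pullback (h ≫ f) (h ≫ f)
  let Γ : Set ↥E := {ε | ∃ (L : Type u) (_ : Field L) (_ : IsAlgClosed L)
    (e : Spec (CommRingCat.of L) ⟶ E), e default = ε ∧ SameComp f h (e ≫ pullback.fst _ _) (e ≫ pullback.snd _ _)}
  -- the set read in a chart
  have hread : ∀ (D : Chart f h), ∃ T : Set ↥(pullback (pullback.fst (h ≫ f) (h ≫ f) ≫ h ≫ f) D.v), IsClopen T ∧
      ∀ η, η ∈ T ↔ pullback.fst (pullback.fst (h ≫ f) (h ≫ f) ≫ h ≫ f) D.v η ∈ Γ := by
    intro D
    let g₂ := pullback.fst (h ≫ f) (h ≫ f) ≫ h ≫ f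
    let A : pullback g₂ D.v ⟶ pullback (h ≫ f) D.v :=
      pullback.lift (pullback.fst _ _ ≫ pullback.fst _ _) (pullback.snd _ _)
        (by rw [Category.assoc]; exact pullback.condition)
    let B : pullback g₂ D.v ⟶ pullback (h ≫ f) D.v :=
      pullback.lift (pullback.fst _ _ ≫ pullback.snd _ _) (pullback.snd _ _) (by
        rw [Category.assoc, ← pullback.condition (f := h ≫ f) (g := h ≫ f)]
        exact pullback.condition (f := g₂) (g := D.v))
    let ψ : ↥(pullback g₂ D.v) → D.ι × D.ι := fun z => (D.idx (A z), D.idx (B z))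
    have hψ : IsLocallyConstant ψ := IsLocallyConstant.prodMk
      (D.splitting.isLocallyConstant.comp_continuous A.continuous)
      (D.splitting.isLocallyConstant.comp_continuous B.continuous)
    have hψeq : IsLocallyConstant (fun z => D.idx (A z) = D.idx (B z)) := hψ.comp (fun p => p.1 = p.2)
    refine ⟨{z | D.idx (A z) = D.idx (B z)}, ?_, fun η => ?_⟩
    · simpa using hψeq.isClopen_fiber True
    -- pointwise
    have hpt : ∀ {L : Type u} [Field L] [IsAlgClosed L] (e : Spec (CommRingCat.of L) ⟶ E)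
        (w : Spec (CommRingCat.of L) ⟶ D.V) (hw : e ≫ g₂ = w ≫ D.v),
        SameComp f h (e ≫ pullback.fst _ _) (e ≫ pullback.snd _ _) ↔
          D.idx (A ((pullback.lift e w hw) default)) = D.idx (B ((pullback.lift e w hw) default)) := by
      intro L _ _ e w hw
      rw [sameComp_iff hconn D _ _ w (by rw [Category.assoc]; exact hw)
        (by rw [Category.assoc, ← pullback.condition (f := h ≫ f) (g := h ≫ f)]; exact hw)]
      simp only [Chart.at]
      rw [← Scheme.Hom.comp_apply, ← Scheme.Hom.comp_apply]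
      rw [show pullback.lift e w hw ≫ A = pullback.lift (e ≫ pullback.fst _ _) w (by rw [Category.assoc]; exact hw) by
          apply pullback.hom_ext <;> simp [A],
        show pullback.lift e w hw ≫ B = pullback.lift (e ≫ pullback.snd _ _) w
            (by rw [Category.assoc, ← pullback.condition (f := h ≫ f) (g := h ≫ f)]; exact hw) by
          apply pullback.hom_ext <;> simp [B]]
    constructor
    · intro hη
      obtain ⟨L, _, _, ζ, rfl⟩ := Pi1FEt.exists_geomPoint η
      refine ⟨L, inferInstance, inferInstance, ζ ≫ pullback.fst g₂ D.v, Scheme.Hom.comp_apply _ _ _, ?_⟩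
      rw [hpt _ (ζ ≫ pullback.snd g₂ D.v) (comp_cond g₂ D.v ζ)]
      rw [show pullback.lift (ζ ≫ pullback.fst g₂ D.v) (ζ ≫ pullback.snd g₂ D.v)
          (comp_cond g₂ D.v ζ) = ζ by apply pullback.hom_ext <;> simp]
      exact hη
    · rintro ⟨L, _, _, e, he, hS⟩
      -- pass to a geometric point over both
      obtain ⟨p, hp₁, -⟩ := Scheme.Pullback.exists_preimage_pullback (f := pullback.fst g₂ D.v) (g := e) η default he.symm
      obtain ⟨L', _, _, ω, rfl⟩ := Pi1FEt.exists_geomPoint p
      let e' := ω ≫ pullback.snd (pullback.fst g₂ D.v) e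
      obtain ⟨w₀, hw₀⟩ := exists_lift_chart D (e ≫ g₂) ⟨pullback.snd g₂ D.v η, by
        rw [← Scheme.Hom.comp_apply, ← pullback.condition (f := g₂) (g := D.v), Scheme.Hom.comp_apply,
          ← he]
        exact (Scheme.Hom.comp_apply e g₂ default).symm⟩
      have h1 := (hpt e w₀ hw₀.symm).1 hS
      let η₁ := ω ≫ pullback.fst (pullback.fst g₂ D.v) e
      have hη₁ : η₁ default = η := by rw [Scheme.Hom.comp_apply]; exact hp₁
      have h2 : SameComp f h ((η₁ ≫ pullback.fst g₂ D.v) ≫ pullback.fst _ _)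
          ((η₁ ≫ pullback.fst g₂ D.v) ≫ pullback.snd _ _) := by
        rw [show η₁ ≫ pullback.fst g₂ D.v = e' ≫ e by
          simp only [η₁, e', Category.assoc, pullback.condition]]
        rw [hpt (e' ≫ e) (e' ≫ w₀) (by rw [Category.assoc, hw₀.symm, ← Category.assoc])]
        rw [show pullback.lift (e' ≫ e) (e' ≫ w₀) (by rw [Category.assoc, hw₀.symm, ← Category.assoc]) =
          e' ≫ pullback.lift e w₀ hw₀.symm by apply pullback.hom_ext <;> simp]
        rw [Scheme.Hom.comp_apply, Subsingleton.elim (e' default) default]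
        exact h1
      rw [hpt _ (η₁ ≫ pullback.snd g₂ D.v) (comp_cond g₂ D.v η₁),
        show pullback.lift (η₁ ≫ pullback.fst g₂ D.v) (η₁ ≫ pullback.snd g₂ D.v) _ = η₁ by
          apply pullback.hom_ext <;> simp, hη₁] at h2
      exact h2
  have hΓ : IsClopen Γ := by
    suffices hh : ∀ ε : ↥E, ∃ O : Set ↥E, IsOpen O ∧ ε ∈ O ∧ IsOpen (O ∩ Γ) ∧ IsOpen (O \ Γ) by
      choose O hO hεO hO₁ hO₂ using hh
      refine ⟨⟨?_⟩, ?_⟩
      · rw [show Γᶜ = ⋃ ε, O ε \ Γ by ext x; simp only [Set.mem_iUnion, Set.mem_sdiff, Set.mem_compl_iff]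
                                      exact ⟨fun hx => ⟨x, hεO x, hx⟩, fun ⟨_, _, hx⟩ => hx⟩]
        exact isOpen_iUnion hO₂
      · rw [show Γ = ⋃ ε, O ε ∩ Γ by ext x; simp only [Set.mem_iUnion, Set.mem_inter_iff]
                                     exact ⟨fun hx => ⟨x, hεO x, hx⟩, fun ⟨_, _, hx⟩ => hx⟩]
        exact isOpen_iUnion hO₁
    intro ε
    let g₂ := pullback.fst (h ≫ f) (h ≫ f) ≫ h ≫ f
    obtain ⟨D, z, hz⟩ := hchart (g₂ ε)
    obtain ⟨p, hp, -⟩ := Scheme.Pullback.exists_preimage_pullback (f := g₂) (g := D.v) ε z hz.symm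
    obtain ⟨T, hT, hTΓ⟩ := hread D
    let r := pullback.fst g₂ D.v
    haveI : Etale r := MorphismProperty.pullback_fst _ _ inferInstance
    refine ⟨Set.range r.base, r.isOpenMap.isOpen_range, ⟨p, hp⟩, ?_, ?_⟩
    · rw [show Set.range r.base ∩ Γ = r.base '' T by
        ext x; constructor
        · rintro ⟨⟨y, rfl⟩, hy⟩; exact ⟨y, (hTΓ y).2 hy, rfl⟩
        · rintro ⟨y, hy, rfl⟩; exact ⟨⟨y, rfl⟩, (hTΓ y).1 hy⟩]
      exact r.isOpenMap _ hT.2
    · rw [show Set.range r.base \ Γ = r.base '' Tᶜ by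
        ext x; constructor
        · rintro ⟨⟨y, rfl⟩, hy⟩; exact ⟨y, fun hh => hy ((hTΓ y).1 hh), rfl⟩
        · rintro ⟨y, hy, rfl⟩; exact ⟨⟨y, rfl⟩, fun hh => hy ((hTΓ y).2 hh)⟩]
      exact r.isOpenMap _ hT.compl.2
  let O : E.Opens := ⟨Γ, hΓ.2⟩
  haveI : IsClosedImmersion O.ι :=
    IsClosedImmersion.of_isPreimmersion O.ι (by rw [Scheme.Opens.range_ι]; exact hΓ.1)
  have hmem : ∀ {L : Type u} [Field L] [IsAlgClosed L] (e : Spec (CommRingCat.of L) ⟶ E),
      e default ∈ Γ ↔ SameComp f h (e ≫ pullback.fst _ _) (e ≫ pullback.snd _ _) := by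
    intro L _ _ e
    refine ⟨fun hh => ?_, fun hh => ⟨L, inferInstance, inferInstance, e, rfl, hh⟩⟩
    let g₂ := pullback.fst (h ≫ f) (h ≫ f) ≫ h ≫ f
    obtain ⟨D, hD⟩ := hchart ((e ≫ g₂) default)
    obtain ⟨w, hw⟩ := exists_lift_chart D (e ≫ g₂) hD
    obtain ⟨T, -, hTΓ⟩ := hread D
    obtain ⟨L', _, _, e', he', hS⟩ := hh
    obtain ⟨M, _, _, c, c', hc⟩ := Pi1PBC.exists_common e e' he'.symm
    have ha : (e ≫ pullback.fst _ _) ≫ h ≫ f = w ≫ D.v := by rw [Category.assoc]; exact hw.symm
    have hb : (e ≫ pullback.snd _ _) ≫ h ≫ f = w ≫ D.v := by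
      rw [Category.assoc, ← pullback.condition]; exact hw.symm
    obtain ⟨w', hw'⟩ := exists_lift_chart D (e' ≫ g₂) (by rw [Scheme.Hom.comp_apply, he', ← Scheme.Hom.comp_apply]; exact hD)
    have hSc : SameComp f h ((c' ≫ e') ≫ pullback.fst _ _) ((c' ≫ e') ≫ pullback.snd _ _) := by
      have h1 := (sameComp_iff hconn D _ _ w' (by rw [Category.assoc]; exact hw'.symm)
        (by rw [Category.assoc, ← pullback.condition]; exact hw'.symm)).1 hS
      refine (sameComp_iff hconn D _ _ (c' ≫ w') (by rw [Category.assoc, Category.assoc, Category.assoc]; exact congrArg (c' ≫ ·) hw'.symm)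
        (by rw [Category.assoc, Category.assoc, Category.assoc, ← pullback.condition]; exact congrArg (c' ≫ ·) hw'.symm)).2 ?_
      simp only [Chart.at] at h1 ⊢
      have key : ∀ (z : Spec (CommRingCat.of L') ⟶ W) (p : z ≫ h ≫ f = w' ≫ D.v)
          (q : (c' ≫ z) ≫ h ≫ f = (c' ≫ w') ≫ D.v),
          (pullback.lift (f := h ≫ f) (g := D.v) (c' ≫ z) (c' ≫ w') q) default =
            (pullback.lift (f := h ≫ f) (g := D.v) z w' p) default := fun z p q => by
        rw [show pullback.lift (f := h ≫ f) (g := D.v) (c' ≫ z) (c' ≫ w') q = c' ≫ pullback.lift z w' p by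
          apply pullback.hom_ext <;> simp, Scheme.Hom.comp_apply, Subsingleton.elim (c' default) default]
      simp only [Category.assoc (c')]
      rw [key, key]
      exact h1
    rw [← hc] at hSc
    rw [sameComp_iff hconn D _ _ w ha hb]
    have h2 := (sameComp_iff hconn D _ _ (c ≫ w) (by rw [Category.assoc, Category.assoc, Category.assoc]; exact congrArg (c ≫ ·) hw.symm)
      (by rw [Category.assoc, Category.assoc, Category.assoc, ← pullback.condition]; exact congrArg (c ≫ ·) hw.symm)).1 hSc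
    simp only [Chart.at] at h2 ⊢
    have key : ∀ (z : Spec (CommRingCat.of L) ⟶ W) (p : z ≫ h ≫ f = w ≫ D.v)
        (q : (c ≫ z) ≫ h ≫ f = (c ≫ w) ≫ D.v),
        (pullback.lift (f := h ≫ f) (g := D.v) (c ≫ z) (c ≫ w) q) default =
          (pullback.lift (f := h ≫ f) (g := D.v) z w p) default := fun z p q => by
      rw [show pullback.lift (f := h ≫ f) (g := D.v) (c ≫ z) (c ≫ w) q = c ≫ pullback.lift z w p by
        apply pullback.hom_ext <;> simp, Scheme.Hom.comp_apply, Subsingleton.elim (c default) default]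
    simp only [Category.assoc (c)] at h2
    rwa [key, key] at h2
  -- the action
  let g := h ≫ f
  let P := pullback g f
  let Ψ : E ⟶ P := pullback.lift (pullback.fst _ _) (pullback.snd _ _ ≫ h)
    (by rw [Category.assoc]; exact pullback.condition)
  have hΨ : IsPullback (pullback.snd g g) Ψ h (pullback.snd g f) := by
    refine IsPullback.of_bot ?_ ?_ (IsPullback.of_hasPullback g f).flip
    · rw [pullback.lift_fst]
      exact (IsPullback.of_hasPullback g g).flip
    · exact (pullback.lift_snd _ _ _).symm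
  haveI : IsFinite Ψ := MorphismProperty.of_isPullback hΨ ‹_›
  haveI : Etale Ψ := MorphismProperty.of_isPullback hΨ ‹_›
  let α : O.toScheme ⟶ P := O.ι ≫ Ψ
  haveI : IsFinite α := inferInstance
  haveI : Etale α := inferInstance
  have hΓuniq : ∀ {L : Type u} [Field L] [IsAlgClosed L] (a b b' : Spec (CommRingCat.of L) ⟶ W),
      b ≫ h = b' ≫ h → SameComp f h a b → SameComp f h a b' → b = b' := by
    intro L _ _ a b b' hbb hab hab'
    obtain ⟨ζ, hζ, hζb, hc⟩ := hab
    obtain ⟨D, hD⟩ := hchart (ζ default)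
    obtain ⟨w, hw⟩ := exists_lift_chart D ζ hD
    subst hw
    have hb' : b' ≫ h ≫ f = w ≫ D.v := by rw [← Category.assoc, ← hbb, Category.assoc, hζb]
    have h1 := (sameComp_iff hconn D a b w hζ hζb).1 ⟨_, hζ, hζb, hc⟩
    have h2 := (sameComp_iff hconn D a b' w hζ hb').1 hab'
    obtain ⟨y, -, hu⟩ := D.splitting.one L
      (pullback.lift (b ≫ h) w (by rw [Category.assoc]; exact hζb)) (D.at b w hζb)
    have e1 := hu (pullback.lift b w hζb) ⟨by apply pullback.hom_ext <;> simp, rfl⟩
    have e2 := hu (pullback.lift b' w hb') ⟨by apply pullback.hom_ext <;> simp [hbb], h2.symm.trans h1⟩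
    simpa using congrArg (· ≫ pullback.fst (h ≫ f) D.v) (e1.trans e2.symm)
  haveI : IsIso α := by
    refine Pi1PBC.isIso_of_geomPoints α (fun L _ _ ξ₁ ξ₂ e => ?_) (fun L _ _ ξ => ?_)
    · have s₁ := (hmem (ξ₁ ≫ O.ι)).1 (by rw [Scheme.Hom.comp_apply]; exact (ξ₁ default).2)
      have s₂ := (hmem (ξ₂ ≫ O.ι)).1 (by rw [Scheme.Hom.comp_apply]; exact (ξ₂ default).2)
      have e₀ : (ξ₁ ≫ O.ι) ≫ pullback.fst g g = (ξ₂ ≫ O.ι) ≫ pullback.fst g g := by
        simpa [α, Ψ] using congrArg (· ≫ pullback.fst g f) e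
      have e₁ : ((ξ₁ ≫ O.ι) ≫ pullback.snd g g) ≫ h = ((ξ₂ ≫ O.ι) ≫ pullback.snd g g) ≫ h := by
        simpa [α, Ψ] using congrArg (· ≫ pullback.snd g f) e
      refine (cancel_mono O.ι).1 (pullback.hom_ext e₀ ?_)
      rw [e₀] at s₁
      exact hΓuniq _ _ _ e₁ s₁ s₂
    · let a := ξ ≫ pullback.fst g f
      obtain ⟨D, hD⟩ := hchart ((a ≫ g) default)
      obtain ⟨w, hw⟩ := exists_lift_chart D (a ≫ g) hD
      have hx : (ξ ≫ pullback.snd g f) ≫ f = w ≫ D.v := by
        rw [hw]; simp only [a, Category.assoc, pullback.condition]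
      obtain ⟨y, ⟨hy₁, hy₂⟩, -⟩ := D.splitting.one L (pullback.lift (ξ ≫ pullback.snd g f) w hx) (D.at a w hw.symm)
      let b := y ≫ pullback.fst (h ≫ f) D.v
      have hyw : y ≫ pullback.snd (h ≫ f) D.v = w := by
        simpa using congrArg (· ≫ pullback.snd f D.v) hy₁
      have hb : b ≫ h = ξ ≫ pullback.snd g f := by
        simpa [b] using congrArg (· ≫ pullback.fst f D.v) hy₁
      have hb' : b ≫ h ≫ f = w ≫ D.v := by rw [← Category.assoc, hb, hx]
      let e : Spec (CommRingCat.of L) ⟶ E := pullback.lift a b (hw.symm.trans hb'.symm)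
      have hE : e default ∈ Γ := by
        refine (hmem e).2 ?_
        rw [pullback.lift_fst, pullback.lift_snd, sameComp_iff hconn D a b w hw.symm hb']
        refine hy₂.symm.trans ?_
        simp only [Chart.at]
        exact congrArg (fun n => D.idx (n default)) (show y = pullback.lift b w hb' by
          apply pullback.hom_ext <;> simp [b, hyw])
      have hr : Set.range e.base ⊆ Set.range O.ι.base := by
        rintro _ ⟨x, rfl⟩
        rw [Scheme.Opens.range_ι, Subsingleton.elim x default]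
        exact hE
      refine ⟨IsOpenImmersion.lift O.ι e hr, ?_⟩
      rw [show IsOpenImmersion.lift O.ι e hr ≫ α = e ≫ Ψ by simp [α, IsOpenImmersion.lift_fac_assoc]]
      apply pullback.hom_ext
      · simp [Ψ, e, a]
      · simp [Ψ, e, hb]
  let act : ∀ {T : Scheme.{u}} (v : T ⟶ W) (x : T ⟶ X), v ≫ g = x ≫ f → (T ⟶ W) :=
    fun v x e => pullback.lift v x e ≫ inv α ≫ O.ι ≫ pullback.snd g g
  have hinv : inv α ≫ O.ι ≫ Ψ = 𝟙 P := IsIso.inv_hom_id α
  have act_hom : ∀ {T : Scheme.{u}} (v : T ⟶ W) (x : T ⟶ X) (e : v ≫ g = x ≫ f), act v x e ≫ h = x := by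
    intro T v x e
    have h1 : inv α ≫ O.ι ≫ pullback.snd g g ≫ h = pullback.snd g f := by
      simpa [Ψ] using congrArg (· ≫ pullback.snd g f) hinv
    simp only [act, Category.assoc, h1, pullback.lift_snd]
  have hrel : ∀ {T : Scheme.{u}} (v : T ⟶ W) (x : T ⟶ X) (e : v ≫ g = x ≫ f) {L : Type u} [Field L]
      [IsAlgClosed L] (t : Spec (CommRingCat.of L) ⟶ T), SameComp f h (t ≫ v) (t ≫ act v x e) := by
    intro T v x e L _ _ t
    have h1 : inv α ≫ O.ι ≫ pullback.fst g g = pullback.fst g f := by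
      simpa [Ψ] using congrArg (· ≫ pullback.fst g f) hinv
    have := (hmem ((t ≫ pullback.lift v x e ≫ inv α) ≫ O.ι)).1 (by
      rw [Scheme.Hom.comp_apply]; exact ((t ≫ pullback.lift v x e ≫ inv α) default).2)
    have e1 : ((t ≫ pullback.lift v x e ≫ inv α) ≫ O.ι) ≫ pullback.fst g g = t ≫ v := by
      simp only [Category.assoc, h1, pullback.lift_fst]
    have e2 : ((t ≫ pullback.lift v x e ≫ inv α) ≫ O.ι) ≫ pullback.snd g g = t ≫ act v x e := by
      simp only [act, Category.assoc]
    exact e1 ▸ e2 ▸ this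
  have hext : ∀ {T : Scheme.{u}} (a b : T ⟶ W), a ≫ h = b ≫ h →
      (∀ (L : Type u) [Field L] [IsAlgClosed L] (t : Spec (CommRingCat.of L) ⟶ T), t ≫ a = t ≫ b) → a = b := by
    intro T a b e he
    refine Pi1Etale.eq_of_agreeι_surjective h a b e ⟨fun x => ?_⟩
    obtain ⟨L, _, _, t, rfl⟩ := Pi1FEt.exists_geomPoint x
    exact Pi1Etale.range_subset_range_agreeι h a b e t (he L t) ⟨default, rfl⟩
  have htrans : ∀ {L : Type u} [Field L] [IsAlgClosed L] (a b c : Spec (CommRingCat.of L) ⟶ W),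
      SameComp f h a b → SameComp f h b c → SameComp f h a c := by
    rintro L _ _ a b c ⟨ζ, ha, hb, h1⟩ ⟨ζ', hb', hc, h2⟩
    obtain rfl : ζ = ζ' := hb.symm.trans hb'
    exact ⟨ζ, ha, hc, h1.trans h2⟩
  let A : Act h f :=
    { act := act
      act_hom := act_hom
      act_self := fun v x e hv => hext _ _ (by rw [act_hom, hv]) fun L _ _ t =>
        hΓuniq (t ≫ v) _ _ (by simp only [Category.assoc, act_hom, hv]) (hrel v x e t) ⟨_, rfl, rfl, rfl⟩
      act_act := fun v x y e e' e'' => hext _ _ (by rw [act_hom, act_hom]) fun L _ _ t =>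
        hΓuniq (t ≫ v) _ _ (by simp only [Category.assoc, act_hom])
          (htrans _ _ _ (hrel v x e t) (hrel _ y e'' t)) (hrel v y e' t)
      act_comp := fun r v x e e' => by
        simp only [act, ← Category.assoc]
        congr 3
        apply pullback.hom_ext <;> simp }
  obtain ⟨U, π, q, hπ, sq, -⟩ := effAlong_sepEt_proper f h ⟨inferInstance, inferInstance⟩ A
  haveI : IsUS f := inferInstance
  obtain ⟨⟨-, hsep⟩, hqc⟩ := sepEtQC_desc q h π f sq hπ inferInstance inferInstance
    ⟨⟨inferInstance, inferInstance⟩, inferInstance⟩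
  haveI := hπ; haveI := hsep; haveI := hqc
  haveI : Surjective q := MorphismProperty.of_isPullback sq.flip ‹Surjective f›
  haveI : UniversallyClosed (q ≫ π) := by rw [sq.w]; infer_instance
  haveI : UniversallyClosed π := UniversallyClosed.of_comp_surjective q π
  haveI : IsProper π := {}
  exact ⟨U, π, q, IsFinite.of_isProper_of_locallyQuasiFinite π, hπ, sq⟩

end Groth.Pi1Split
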