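import Groth.Agent.Pi1Split.Basic
import Groth.Agent.EtaleBase.Limit.StrictLocalization
import Groth.Agent.Limits.DescentSetup
import Groth.Agent.Pi1FEt.Components

/-!
# Fibrewise split covers of proper schemes are split etale-locally on the base
-/

universe u

set_option autoImplicit false
set_option backward.isDefEq.respectTransparency false
set_option backward.defeqAttrib.useBackward true
set_option linter.style.haveILetI false

open CategoryTheory Limits AlgebraicGeometry TopologicalSpace Groth.HensPair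
open Opposite

namespace Groth.Pi1Split

variable {X S : Scheme.{u}} (f : X ⟶ S) {W : Scheme.{u}} (h : W ⟶ X)

/-- The cover of a base change of `X`. -/
noncomputable def qMap {V : Scheme.{u}} (v : V ⟶ S) : pullback (h ≫ f) v ⟶ pullback f v :=
  pullback.lift (pullback.fst _ _ ≫ h) (pullback.snd _ _) (by rw [Category.assoc]; exact pullback.condition)

@[reassoc (attr := simp)]
theorem qMap_fst {V : Scheme.{u}} (v : V ⟶ S) :
    qMap f h v ≫ pullback.fst f v = pullback.fst (h ≫ f) v ≫ h := pullback.lift_fst _ _ _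

@[reassoc (attr := simp)]
theorem qMap_snd {V : Scheme.{u}} (v : V ⟶ S) :
    qMap f h v ≫ pullback.snd f v = pullback.snd (h ≫ f) v := pullback.lift_snd _ _ _

theorem isPullback_qMap {V : Scheme.{u}} (v : V ⟶ S) :
    IsPullback (pullback.fst (h ≫ f) v) (qMap f h v) h (pullback.fst f v) := by
  refine IsPullback.of_bot ?_ (qMap_fst f h v).symm (IsPullback.of_hasPullback f v)
  rw [qMap_snd]
  exact IsPullback.of_hasPullback (h ≫ f) v

instance [IsFinite h] {V : Scheme.{u}} (v : V ⟶ S) : IsFinite (qMap f h v) :=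
  MorphismProperty.of_isPullback (isPullback_qMap f h v) ‹_›

instance [Etale h] {V : Scheme.{u}} (v : V ⟶ S) : Etale (qMap f h v) :=
  MorphismProperty.of_isPullback (isPullback_qMap f h v) ‹_›

/-- The map of base changes along a change of the base. -/
noncomputable def pbBase {V' V : Scheme.{u}} (m : V' ⟶ V) (v : V ⟶ S) (v' : V' ⟶ S) (w : m ≫ v = v') :
    pullback f v' ⟶ pullback f v :=
  pullback.lift (pullback.fst _ _) (pullback.snd _ _ ≫ m) (by rw [Category.assoc, w]; exact pullback.condition)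

@[reassoc (attr := simp)]
theorem pbBase_fst {V' V : Scheme.{u}} (m : V' ⟶ V) (v : V ⟶ S) (v' : V' ⟶ S) (w : m ≫ v = v') :
    pbBase f m v v' w ≫ pullback.fst f v = pullback.fst f v' := pullback.lift_fst _ _ _

@[reassoc (attr := simp)]
theorem pbBase_snd {V' V : Scheme.{u}} (m : V' ⟶ V) (v : V ⟶ S) (v' : V' ⟶ S) (w : m ≫ v = v') :
    pbBase f m v v' w ≫ pullback.snd f v = pullback.snd f v' ≫ m := pullback.lift_snd _ _ _

theorem isPullback_pbBase {V' V : Scheme.{u}} (m : V' ⟶ V) (v : V ⟶ S) (v' : V' ⟶ S) (w : m ≫ v = v') :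
    IsPullback (pbBase f m v v' w) (pullback.snd f v') (pullback.snd f v) m := by
  refine IsPullback.of_right ?_ (pbBase_snd f m v v' w) (IsPullback.of_hasPullback f v)
  rw [pbBase_fst, w]
  exact IsPullback.of_hasPullback f v'

theorem isPullback_qMap_pbBase {V' V : Scheme.{u}} (m : V' ⟶ V) (v : V ⟶ S) (v' : V' ⟶ S) (w : m ≫ v = v') :
    IsPullback (pbBase (h ≫ f) m v v' w) (qMap f h v') (qMap f h v) (pbBase f m v v' w) := by
  refine IsPullback.of_right ?_ ?_ (isPullback_qMap f h v)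
  · rw [pbBase_fst, pbBase_fst]
    exact isPullback_qMap f h v'
  · apply pullback.hom_ext <;> simp

/-- An index is splitting over a point of a base change iff it is over the image point. -/
theorem oneOverEach_iff {Q' Q P' P : Scheme.{u}} {q' : Q' ⟶ P'} {q : Q ⟶ P} {mQ : Q' ⟶ Q} {mP : P' ⟶ P}
    (sq : IsPullback mQ q' q mP) {ι : Type u} (idx : ↥Q → ι) {Ω : Type u} [Field Ω]
    (ξ : Spec (CommRingCat.of Ω) ⟶ P') :
    OneOverEach q' (fun z => idx (mQ z)) ξ ↔ OneOverEach q idx (ξ ≫ mP) := by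
  refine forall_congr' fun i => ⟨?_, ?_⟩
  · rintro ⟨y, ⟨hy₁, hy₂⟩, hu⟩
    refine ⟨y ≫ mQ, ⟨by rw [Category.assoc, sq.w, ← Category.assoc, hy₁], by
      rw [Scheme.Hom.comp_apply]; exact hy₂⟩, fun z ⟨hz₁, hz₂⟩ => ?_⟩
    rw [← hu (sq.lift z ξ hz₁) ⟨sq.lift_snd _ _ _, by
      beta_reduce
      rw [← Scheme.Hom.comp_apply, sq.lift_fst]; exact hz₂⟩, sq.lift_fst]
  · rintro ⟨y, ⟨hy₁, hy₂⟩, hu⟩
    refine ⟨sq.lift y ξ hy₁, ⟨sq.lift_snd _ _ _, by
      beta_reduce
      rw [← Scheme.Hom.comp_apply, sq.lift_fst]; exact hy₂⟩, fun z ⟨hz₁, hz₂⟩ => ?_⟩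
    refine sq.hom_ext ?_ (by rw [sq.lift_snd, hz₁])
    rw [sq.lift_fst]
    exact hu _ ⟨by rw [Category.assoc, sq.w, ← Category.assoc, hz₁], by
      rw [Scheme.Hom.comp_apply]; exact hz₂⟩

theorem clopenBij_comp {A B C : Type*} [TopologicalSpace A] [TopologicalSpace B] [TopologicalSpace C]
    {p : A → B} {q : B → C} (hq : Continuous q) (bp : ClopenBij p) (bq : ClopenBij q) : ClopenBij (q ∘ p) := by
  intro V hV
  obtain ⟨U₁, ⟨hU₁, hU₁V⟩, hu₁⟩ := bp V hV
  obtain ⟨U, ⟨hU, hUU₁⟩, hu⟩ := bq U₁ hU₁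
  exact ⟨U, ⟨hU, by rw [Set.preimage_comp, hUU₁, hU₁V]⟩, fun U' hU' =>
    hu U' ⟨hU'.1, hu₁ _ ⟨hU'.1.preimage hq, hU'.2⟩⟩⟩

theorem clopenBij_of_isIso {A B : Scheme.{u}} (e : A ⟶ B) [IsIso e] : ClopenBij e.base := by
  intro V hV
  have h1 : ∀ x, (inv e).base (e.base x) = x := fun x => by
    rw [← Scheme.Hom.comp_apply, IsIso.hom_inv_id]; rfl
  have h2 : ∀ y, e.base ((inv e).base y) = y := fun y => by
    rw [← Scheme.Hom.comp_apply, IsIso.inv_hom_id]; rfl
  refine ⟨(inv e).base ⁻¹' V, ⟨hV.preimage (inv e).continuous, ?_⟩, fun U hU => ?_⟩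
  · ext x; simp [h1]
  · rw [← hU.2]; ext y; simp [h2]

theorem clopenBij_pbBase {V' V : Scheme.{u}} (m : V' ⟶ V) (v : V ⟶ S) (v' : V' ⟶ S) (w : m ≫ v = v')
    (hb : ClopenBij (pullback.fst (pullback.snd f v) m).base) : ClopenBij (pbBase f m v v' w).base := by
  let e := (isPullback_pbBase f m v v' w).isoPullback
  have he : e.hom ≫ pullback.fst (pullback.snd f v) m = pbBase f m v v' w :=
    IsPullback.isoPullback_hom_fst _
  rw [← he, Scheme.Hom.comp_base]
  exact clopenBij_comp (p := e.hom.base) (q := (pullback.fst (pullback.snd f v) m).base)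
    (pullback.fst _ m).continuous (clopenBij_of_isIso e.hom) hb

open IsLocalRing in
/-- Over the etale local ring clopens are those of the geometric fibre. -/
theorem clopenBij_local {R : Type u} [CommRing R] [HenselianLocalRing R] [IsSepClosed (ResidueField R)]
    {P : Scheme.{u}} (g : P ⟶ S) [IsProper g] (τ : Spec (CommRingCat.of R) ⟶ S)
    (K : Type u) [Field K] [Algebra (ResidueField R) K] :
    ClopenBij (pbBase g (Spec.map (CommRingCat.ofHom (algebraMap (ResidueField R) K)) ≫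
      Spec.map (CommRingCat.ofHom (residue R))) τ _ rfl).base := by
  let b := Spec.map (CommRingCat.ofHom (algebraMap (ResidueField R) K))
  let c := Spec.map (CommRingCat.ofHom (residue R))
  have he : pbBase g b (c ≫ τ) ((b ≫ c) ≫ τ) (Category.assoc _ _ _).symm ≫ pbBase g c τ (c ≫ τ) rfl =
      pbBase g (b ≫ c) τ _ rfl := by
    apply pullback.hom_ext <;> simp
  rw [← he]
  haveI : IsProper (pullback.snd g τ) := MorphismProperty.pullback_snd _ _ ‹IsProper g›
  rw [Scheme.Hom.comp_base]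
  refine clopenBij_comp (p := (pbBase g b (c ≫ τ) ((b ≫ c) ≫ τ) _).base)
    (q := (pbBase g c τ (c ≫ τ) rfl).base) (pbBase g c τ _ rfl).continuous ?_ ?_
  · exact clopenBij_pbBase g b (c ≫ τ) _ _ (Pi1PBC.clopenBij_field _)
  · exact clopenBij_pbBase g c τ _ rfl
      (HensPair.clopenBij_pullback_fst CohFin.projFinite (maximalIdeal R) (pullback.snd g τ))

section Main

open IsLocalRing Groth.EtaleBase Groth.EtaleBase.EtLimit

/-- A finite etale cover split on geometric fibres of a proper morphism is split on an etale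
neighbourhood of every point of the base. -/
theorem exists_splitting_nhd [IsProper f] [IsFinite h] [Etale h]
    (hsplit : ∀ (K : Type u) [Field K] [IsAlgClosed K] (σ : Spec (CommRingCat.of K) ⟶ S),
      ∃ (ι : Type u) (_ : Finite ι) (idx : ↥(pullback (h ≫ f) σ) → ι), IsSplitting (qMap f h σ) idx)
    (s : S) :
    ∃ (V : Scheme.{u}) (v : V ⟶ S) (_ : Etale v), s ∈ Set.range v.base ∧
      ∃ (ι : Type u) (_ : Finite ι) (idx : ↥(pullback (h ≫ f) v) → ι), IsSplitting (qMap f h v) idx := by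
  classical
  obtain ⟨Ω, _, _, ξ, hξ⟩ := Pi1FEt.exists_geomPoint s
  obtain ⟨ι₀, _, _, _, K, hKf, hKa⟩ := exists_affine_system ξ
  haveI := hKa
  obtain ⟨hH, hS⟩ := EtLocalRing.isStrictlyHenselian ξ
  let R : CommRingCat.{u} := EtBase.etaleLocalRing ξ
  haveI : HenselianLocalRing R := hH
  haveI : IsSepClosed (ResidueField R) := hS
  let D := nbhdSystem ξ K ⋙ Scheme.Etale.forget S ⋙ Over.forget S
  let t : D ⟶ (Functor.const _).obj S :=
    { app := fun j => ((nbhdSystem ξ K).obj j).hom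
      naturality := fun a b m =>
        ((CategoryTheory.Over.w ((Scheme.Etale.forget S).map ((nbhdSystem ξ K).map m)))).trans
          (Category.comp_id _).symm }
  let c := localCone ξ K
  let τ : Spec R ⟶ S :=
    Spec.map (Groth.AlgSpEt.StrictLocal.toEtale ξ) ≫ S.fromSpecStalk (ξ default)
  have hτ : ∀ j, c.π.app j ≫ t.app j = τ := fun j => localCone_hom ξ K j.unop
  haveI : ∀ j, IsAffine (D.obj j) := fun j => hKa j.unop
  haveI : ∀ (a b : ι₀ᵒᵖ) (m : a ⟶ b), IsAffineHom (D.map m) := fun a b m => inferInstance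
  -- the geometric closed fibre
  let L := AlgebraicClosure (ResidueField R)
  let l : Spec (CommRingCat.of L) ⟶ Spec R :=
    Spec.map (CommRingCat.ofHom (algebraMap (ResidueField R) L)) ≫ Spec.map (CommRingCat.ofHom (residue R))
  obtain ⟨ι, _, idxσ, hσ⟩ := hsplit L (l ≫ τ)
  have hbij : ClopenBij (pbBase (h ≫ f) l τ (l ≫ τ) rfl).base := clopenBij_local (R := R) (h ≫ f) τ L
  choose C hC hCu using fun i => hbij {z | idxσ z = i} (isClopen_idx hσ.isLocallyConstant i)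
  -- the clopens come from a stage
  let sys := Limits.bcDiagram t (h ≫ f)
  let cc : Cone sys := Limits.bcCone t (h ≫ f) c τ hτ
  have hcc : IsLimit cc := Limits.isLimitBcCone t (h ≫ f) c τ hτ (isLimitLocalCone ξ K)
  haveI : ∀ {a b : ι₀ᵒᵖ} (m : a ⟶ b), IsAffineHom (sys.map m) := fun m =>
    Limits.isAffineHom_bcDiagram_map t (h ≫ f) _ _ m
  haveI : ∀ j, CompactSpace ↥(sys.obj j) := fun j =>
    haveI : QuasiCompact (pullback.snd (h ≫ f) (t.app j)) := inferInstance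
    QuasiCompact.compactSpace_of_compactSpace (pullback.snd (h ≫ f) (t.app j))
  haveI : ∀ j, QuasiSeparatedSpace ↥(sys.obj j) := fun j =>
    haveI : QuasiSeparated (pullback.snd (h ≫ f) (t.app j)) := inferInstance
    quasiSeparatedSpace_of_quasiSeparated (pullback.snd (h ≫ f) (t.app j))
  haveI : CompactSpace ↥cc.pt := by
    haveI : QuasiCompact (pullback.snd (h ≫ f) τ) := inferInstance
    exact QuasiCompact.compactSpace_of_compactSpace (pullback.snd (h ≫ f) τ)
  choose jC U hUc hU using fun i => exists_preimage_eq sys cc hcc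
    ⟨C i, (hC i).1.2⟩ (hC i).1.1.isCompact
  obtain ⟨j₀, hj₀⟩ := IsCofiltered.inf_objs_exists ((Fintype.ofFinite ι).elems.image jC)
  let mi : ∀ i, j₀ ⟶ jC i := fun i =>
    (hj₀ (Finset.mem_image_of_mem jC (@Fintype.complete ι (Fintype.ofFinite ι) i))).some
  let U₀ : ι → (sys.obj j₀).Opens := fun i => sys.map (mi i) ⁻¹ᵁ U i
  have hU₀c : ∀ i, IsCompact (U₀ i : Set (sys.obj j₀)) := fun i =>
    QuasiCompact.isCompact_preimage (f := sys.map (mi i)) _ (U i).2 (hUc i)
  have hU₀ : ∀ i, cc.π.app j₀ ⁻¹ᵁ U₀ i = ⟨C i, (hC i).1.2⟩ := fun i => by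
    rw [← Scheme.Hom.comp_preimage, cc.w, hU]
  have hCcov : ⋃ i, C i = Set.univ := by
    refine (hbij Set.univ isClopen_univ).unique ⟨isClopen_iUnion_of_finite fun i => (hC i).1, ?_⟩
      ⟨isClopen_univ, rfl⟩
    rw [Set.preimage_iUnion]
    exact Set.eq_univ_of_forall fun z => Set.mem_iUnion.2 ⟨idxσ z, by rw [(hC _).2]; rfl⟩
  have hCdisj : ∀ i i', i ≠ i' → C i ∩ C i' = ∅ := fun i i' hii' => by
    refine (hbij ∅ isClopen_empty).unique ⟨(hC i).1.inter (hC i').1, ?_⟩ ⟨isClopen_empty, rfl⟩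
    rw [Set.preimage_inter, (hC i).2, (hC i').2]
    exact Set.eq_empty_of_forall_notMem fun z ⟨h₁, h₂⟩ => hii' (h₁.symm.trans h₂)
  -- shrink to make them a partition
  obtain ⟨j₁, m₁, hcov⟩ : ∃ (j₁ : ι₀ᵒᵖ) (m₁ : j₁ ⟶ j₀), sys.map m₁ ⁻¹ᵁ (⨆ i, U₀ i) = sys.map m₁ ⁻¹ᵁ ⊤ := by
    refine exists_map_preimage_eq_map_preimage sys cc hcc ?_ ?_ ?_
    · rw [Opens.coe_iSup]; exact isCompact_iUnion hU₀c
    · exact isCompact_univ
    · rw [Scheme.Hom.preimage_iSup]
      ext1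
      simp only [hU₀, Opens.coe_iSup]
      exact hCcov
  let U₁ : ι → (sys.obj j₁).Opens := fun i => sys.map m₁ ⁻¹ᵁ U₀ i
  have hU₁c : ∀ i, IsCompact (U₁ i : Set (sys.obj j₁)) := fun i =>
    QuasiCompact.isCompact_preimage (f := sys.map m₁) _ (U₀ i).2 (hU₀c i)
  have hU₁ : ∀ i, cc.π.app j₁ ⁻¹ᵁ U₁ i = ⟨C i, (hC i).1.2⟩ := fun i => by
    rw [← Scheme.Hom.comp_preimage, cc.w, hU₀]
  obtain ⟨j₂, m₂, hdisj⟩ : ∃ (j₂ : ι₀ᵒᵖ) (m₂ : j₂ ⟶ j₁),
      sys.map m₂ ⁻¹ᵁ (⨆ p : {p : ι × ι // p.1 ≠ p.2}, U₁ p.1.1 ⊓ U₁ p.1.2) = sys.map m₂ ⁻¹ᵁ ⊥ := by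
    refine exists_map_preimage_eq_map_preimage sys cc hcc ?_ ?_ ?_
    · rw [Opens.coe_iSup]
      exact isCompact_iUnion fun p => QuasiSeparatedSpace.inter_isCompact _ _ (U₁ p.1.1).2 (hU₁c _)
        (U₁ p.1.2).2 (hU₁c _)
    · exact isCompact_empty
    · rw [Scheme.Hom.preimage_iSup]
      ext1
      simp only [Scheme.Hom.preimage_inf, hU₁, Opens.coe_iSup, Opens.coe_inf, Scheme.Hom.preimage_bot,
        Opens.coe_bot, Set.iUnion_eq_empty]
      exact fun p => hCdisj _ _ p.2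
  let U₂ : ι → (sys.obj j₂).Opens := fun i => sys.map m₂ ⁻¹ᵁ U₁ i
  have hcov₂ : ∀ z, ∃ i, z ∈ U₂ i := fun z => by
    have : sys.map m₂ z ∈ sys.map m₁ ⁻¹ᵁ (⨆ i, U₀ i) := hcov ▸ trivial
    obtain ⟨i, hi⟩ := Opens.mem_iSup.1 this
    exact ⟨i, hi⟩
  have hdisj₂ : ∀ z i i', z ∈ U₂ i → z ∈ U₂ i' → i = i' := fun z i i' h₁ h₂ => by
    by_contra hne
    have : z ∈ sys.map m₂ ⁻¹ᵁ (⨆ p : {p : ι × ι // p.1 ≠ p.2}, U₁ p.1.1 ⊓ U₁ p.1.2) :=
      Opens.mem_iSup.2 ⟨⟨(i, i'), hne⟩, h₁, h₂⟩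
    rw [hdisj] at this
    exact this
  choose idx hidx using hcov₂
  have hidx' : ∀ z i, idx z = i ↔ z ∈ U₂ i := fun z i =>
    ⟨fun e => e ▸ hidx z, fun hz => hdisj₂ z _ _ (hidx z) hz⟩
  have hlc : IsLocallyConstant idx := (IsLocallyConstant.iff_isOpen_fiber).2 fun i => by
    change IsOpen {z | idx z = i}
    simp only [hidx']
    exact (U₂ i).2
  -- the geometric closed fibre at the stage
  let v₂ : D.obj j₂ ⟶ S := t.app j₂
  haveI : Etale v₂ := ((nbhdSystem ξ K).obj j₂).prop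
  let σ₂ : Spec (CommRingCat.of L) ⟶ D.obj j₂ := l ≫ c.π.app j₂
  have hσ₂ : σ₂ ≫ v₂ = l ≫ τ := by rw [Category.assoc, hτ]
  let mW := pbBase (h ≫ f) σ₂ v₂ (l ≫ τ) hσ₂
  have hmW : mW = pbBase (h ≫ f) l τ (l ≫ τ) rfl ≫ cc.π.app j₂ := by
    apply pullback.hom_ext <;> simp [mW, cc, Limits.bcCone, σ₂, v₂]
  have hidxσ : (fun z => idx (mW z)) = idxσ := funext fun z => by
    rw [hidx', hmW, Scheme.Hom.comp_apply]
    change pbBase (h ≫ f) l τ (l ≫ τ) rfl z ∈ cc.π.app j₂ ⁻¹ᵁ U₂ (idxσ z)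
    rw [show cc.π.app j₂ ⁻¹ᵁ U₂ (idxσ z) = ⟨C (idxσ z), (hC _).1.2⟩ by
      rw [← Scheme.Hom.comp_preimage, cc.w, hU₁]]
    change pbBase (h ≫ f) l τ (l ≫ τ) rfl z ∈ C (idxσ z)
    rw [← Set.mem_preimage, (hC _).2]
    rfl
  -- the good locus
  let Good : Set ↥(pullback f v₂) := {p | ∀ i, ((piece hlc i).ι ≫ qMap f h v₂).finrank p = 1}
  have hGood : IsClopen Good := by
    have : Good = ⋂ i, {p | ((piece hlc i).ι ≫ qMap f h v₂).finrank p = 1} := by
      ext p; simp [Good]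
    rw [this]
    refine isClopen_iInter_of_finite fun i => ?_
    haveI := isClosedImmersion_piece_ι hlc i
    exact (Scheme.Hom.isLocallyConstant_finrank _).isClopen_fiber 1
  have hfib : ∀ p : ↥(pullback f v₂), pullback.snd f v₂ p = σ₂ default → p ∈ Good := fun p hp i => by
    obtain ⟨q, hq, -⟩ := Scheme.Pullback.exists_preimage_pullback (f := pullback.snd f v₂) (g := σ₂) p default hp
    obtain ⟨M, _, _, η, rfl⟩ := Pi1FEt.exists_geomPoint q
    let e := (isPullback_pbBase f σ₂ v₂ (l ≫ τ) hσ₂).isoPullback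
    have he : e.hom ≫ pullback.fst (pullback.snd f v₂) σ₂ = pbBase f σ₂ v₂ (l ≫ τ) hσ₂ :=
      IsPullback.isoPullback_hom_fst _
    have hp' : ((η ≫ e.inv) ≫ pbBase f σ₂ v₂ (l ≫ τ) hσ₂) default = p := by
      rw [← he, Category.assoc, Iso.inv_hom_id_assoc, Scheme.Hom.comp_apply, hq]
    have h1 := hσ.one M (η ≫ e.inv)
    rw [← hidxσ] at h1
    have h2 := (oneOverEach_iff (isPullback_qMap_pbBase f h σ₂ v₂ (l ≫ τ) hσ₂) idx (η ≫ e.inv)).1 h1 i
    rw [existsUnique_iff_card (qMap f h v₂) hlc i, hp'] at h2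
    exact h2
  let bad : Set ↥(D.obj j₂) := (pullback.snd f v₂).base '' Goodᶜ
  have hbad : IsClosed bad := (pullback.snd f v₂).isClosedMap _ hGood.compl.1
  let O : (D.obj j₂).Opens := ⟨badᶜ, hbad.isOpen_compl⟩
  have hmem : σ₂ default ∈ O := by
    rintro ⟨p, hp, hpe⟩
    exact hp (hfib p hpe)
  refine ⟨O.toScheme, O.ι ≫ v₂, inferInstance, ⟨⟨σ₂ default, hmem⟩, ?_⟩, ι, ‹_›,
    fun z => idx (pbBase (h ≫ f) O.ι v₂ _ rfl z), hlc.comp_continuous (Scheme.Hom.continuous _), fun M _ _ η => ?_⟩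
  · rw [Scheme.Hom.comp_apply]
    change v₂ (σ₂ default) = s
    rw [← Scheme.Hom.comp_apply, hσ₂, Scheme.Hom.comp_apply, Scheme.Hom.comp_apply,
      Scheme.Hom.comp_apply, Subsingleton.elim (Spec.map (CommRingCat.ofHom (algebraMap (ResidueField R) L)) default)
        (closedPoint (ResidueField R) : PrimeSpectrum (ResidueField R))]
    have h1 : Spec.map (CommRingCat.ofHom (residue R)) (closedPoint (ResidueField R) : PrimeSpectrum (ResidueField R)) =
        (closedPoint R : PrimeSpectrum R) := comap_closedPoint (residue R)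
    refine (congrArg (fun p => (S.fromSpecStalk (ξ default))
      ((Spec.map (Groth.AlgSpEt.StrictLocal.toEtale ξ)) p)) h1).trans ?_
    haveI := Groth.AlgSpEt.StrictHens.isLocalHom_toEtale ξ
    have h2 : Spec.map (Groth.AlgSpEt.StrictLocal.toEtale ξ) (closedPoint R : PrimeSpectrum R) =
        closedPoint (S.presheaf.stalk (ξ default)) := comap_closedPoint (Groth.AlgSpEt.StrictLocal.toEtale ξ).hom
    refine (congrArg (fun p => (S.fromSpecStalk (ξ default)) p) h2).trans ?_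
    refine Scheme.fromSpecStalk_closedPoint.trans ?_
    exact hξ
  · rw [oneOverEach_iff (isPullback_qMap_pbBase f h O.ι v₂ _ rfl) idx η]
    intro i
    rw [existsUnique_iff_card (qMap f h v₂) hlc i]
    by_contra hne
    have h1 : ((pullback.snd f (O.ι ≫ v₂)) (η default)).1 ∈ bad := by
      refine ⟨(η ≫ pbBase f O.ι v₂ _ rfl) default, fun hg => hne (hg i), ?_⟩
      rw [← Scheme.Hom.comp_apply, Category.assoc, pbBase_snd, Scheme.Hom.comp_apply, Scheme.Hom.comp_apply]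
      rfl
    exact ((pullback.snd f (O.ι ≫ v₂)) (η default)).2 h1

end Main

end Groth.Pi1Split
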